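import Mathlib
import Cfsg.Agent.Lib.Helper3.L211.Data
import Cfsg.Agent.Lib.Helper10.L211D

set_option autoImplicit false

/-! The group `L₂(11)` as the stabiliser in `M₂₄` of a dodecad, a point of it and a point outside:
the list `LG` of codes is exactly the set of codes of its elements. -/

namespace Cfsg.Agent.Lib.Helper3.L211

open Cfsg Cfsg.Agent.Lib.Helper3.Golay Cfsg.Agent.Lib.Helper3.Fus Cfsg.Agent.Lib.Helper3.OutAut
open Cfsg.Agent.Lib.Helper10.L211 (Lgrp card_L La_iso)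
open Cfsg.Agent.Lib.Helper3.L211.Data
open scoped Pointwise

/-- the dodecad -/
abbrev dd : Finset GolayPt := bitSet d0

theorem dd_mem : dd ∈ dodecads := d0_mem

theorem pt0_mem : pt 0 ∈ dd := p0_mem

theorem pt5_not_mem : pt 5 ∉ dd := by
  rw [mem_bitSet, idx_pt (by norm_num)]
  decide

/-- the group -/
abbrev L0 : Subgroup ↥M24 := Lgrp dd (pt 0) (pt 5)

/-- the group as a group of permutations -/
def T : Subgroup (Equiv.Perm GolayPt) := L0.map M24.subtype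

theorem mem_T {σ : Equiv.Perm GolayPt} :
    σ ∈ T ↔ σ ∈ M24 ∧ σ • dd = dd ∧ σ (pt 0) = pt 0 ∧ σ (pt 5) = pt 5 := by
  unfold T
  rw [Subgroup.mem_map]
  constructor
  · rintro ⟨g, ⟨⟨h1, h2⟩, h3⟩, rfl⟩
    exact ⟨g.2, h1, h2, h3⟩
  · rintro ⟨h0, h1, h2, h3⟩
    exact ⟨⟨σ, h0⟩, ⟨⟨h1, h2⟩, h3⟩, rfl⟩

theorem card_T : Nat.card T = 660 := by
  unfold T
  rw [Subgroup.card_map_of_injective M24.subtype_injective]
  exact card_L dd_mem pt0_mem pt5_not_mem

theorem gen_sound {U : List ℕ} (h : memOKL U = true) : ∃ σ ∈ T, codeOf σ = encL U := by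
  unfold memOKL at h
  rw [Bool.and_eq_true, Bool.and_eq_true] at h
  obtain ⟨σ, hσ, h1, -⟩ := tblOK_sound' h.1.1
  rw [Subgroup.mem_inf] at hσ
  refine ⟨σ, mem_T.mpr ⟨hσ.1, hσ.2, fixes_pt h1 (by norm_num) (Nat.eq_of_beq_eq_true h.1.2),
    fixes_pt h1 (by norm_num) (Nat.eq_of_beq_eq_true h.2)⟩, codeOf_of_hasTbl h1⟩

theorem LG_sound : ∀ n ∈ LG, ∃ σ ∈ T, codeOf σ = n := by
  have hrun := eqB_sound chk_run
  rw [← hrun]
  have key : ∀ (prog : List FIns) (acc : List ℕ), (∀ n ∈ acc, ∃ σ ∈ T, codeOf σ = n) →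
      ∀ n ∈ prog.foldl (fstep (fun _ => false) []) acc, ∃ σ ∈ T, codeOf σ = n := by
    intro prog
    induction prog with
    | nil => intro acc h; simpa using h
    | cons ins prog ih =>
      intro acc h
      rw [List.foldl_cons]
      exact ih _ (fstep_sound (H := ⊤) (S := T) (by intro q hq; simp at hq)
        (by intro n hn; simp at hn) (fun _ _ _ _ h => h) h ins)
  apply key
  intro n hn
  obtain ⟨h1, h2, h3, h4⟩ := chk_gens
  simp only [List.mem_cons, List.not_mem_nil, or_false] at hn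
  rcases hn with rfl | rfl | rfl
  · exact ⟨1, T.one_mem, codeOf_one⟩
  · rw [← h3]; exact gen_sound h1
  · rw [← h4]; exact gen_sound h2

theorem code_mem_LG {σ : Equiv.Perm GolayPt} (h : σ ∈ T) : codeOf σ ∈ LG := by
  have hsub : (↑LG.toFinset : Set ℕ) ⊆ codeOf '' (T : Set (Equiv.Perm GolayPt)) := by
    intro n hn
    rw [Finset.mem_coe, List.mem_toFinset] at hn
    obtain ⟨σ, hσ, rfl⟩ := LG_sound n hn
    exact ⟨σ, hσ, rfl⟩
  have h1 : (codeOf '' (T : Set (Equiv.Perm GolayPt))).ncard = 660 := by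
    rw [Set.ncard_image_of_injective _ codeOf_injective, ← Nat.card_coe_set_eq]
    exact card_T
  have h2 : (↑LG.toFinset : Set ℕ).ncard = 660 := by
    rw [Set.ncard_coe_finset, List.toFinset_card_of_nodup (nodupB_sound chk_nodup)]
    exact chk_len.1
  have := Set.eq_of_subset_of_ncard_le hsub (by rw [h1, h2]) (Set.toFinite _)
  have hm : codeOf σ ∈ codeOf '' (T : Set (Equiv.Perm GolayPt)) := ⟨σ, h, rfl⟩
  rw [← this, Finset.mem_coe, List.mem_toFinset] at hm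
  exact hm

/-! ### the point stabilisers -/

theorem ptsL_spec : ∀ i ∈ ptsL, i < 24 ∧ i ≠ 0 ∧ i ≠ 5 := by decide +kernel

theorem mem_ptsL : ∀ i < 24, i ≠ 0 → i ≠ 5 → i ∈ ptsL := by decide +kernel

theorem ptsL_cases : ∀ i ∈ ptsL, (d0.testBit i = true ∧ i ∈ dptsL) ∨
    (d0.testBit i = false ∧ i ∈ cptsL) := by decide +kernel

theorem dptsL_spec : ∀ i ∈ dptsL, d0.testBit i = true ∧ i ∈ ptsL := by decide +kernel

theorem cptsL_spec : ∀ i ∈ cptsL, d0.testBit i = false ∧ i ∈ ptsL := by decide +kernel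

theorem pt_mem_dd_iff {i : ℕ} (hi : i < 24) : pt i ∈ dd ↔ d0.testBit i = true := by
  rw [mem_bitSet, idx_pt hi]

theorem map_inf_stab (a : GolayPt) :
    (L0 ⊓ MulAction.stabilizer M24 a).map M24.subtype =
      T ⊓ MulAction.stabilizer (Equiv.Perm GolayPt) a := by
  ext σ
  unfold T
  simp only [Subgroup.mem_map, Subgroup.mem_inf]
  constructor
  · rintro ⟨g, ⟨hg, ha⟩, rfl⟩
    exact ⟨⟨g, hg, rfl⟩, ha⟩
  · rintro ⟨⟨g, hg, rfl⟩, ha⟩
    exact ⟨g, ⟨hg, ha⟩, rfl⟩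

theorem stab_compl : MulAction.stabilizer M24 dd = MulAction.stabilizer M24 ddᶜ := by
  ext g
  rw [MulAction.mem_stabilizer_iff, MulAction.mem_stabilizer_iff]
  show (g : Equiv.Perm GolayPt) • dd = dd ↔ (g : Equiv.Perm GolayPt) • ddᶜ = ddᶜ
  rw [Cfsg.Agent.S1566.smul_compl, compl_inj_iff]

theorem L0_eq_compl : L0 = Lgrp ddᶜ (pt 5) (pt 0) := by
  show MulAction.stabilizer M24 dd ⊓ _ ⊓ _ = MulAction.stabilizer M24 ddᶜ ⊓ _ ⊓ _
  rw [stab_compl, inf_right_comm]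

theorem stab_iso {i : ℕ} (hi : i ∈ ptsL) :
    Nonempty (↥(T ⊓ MulAction.stabilizer (Equiv.Perm GolayPt) (pt i)) ≃*
      alternatingGroup (Fin 5)) := by
  obtain ⟨h24, h0, h5⟩ := ptsL_spec i hi
  have e1 : ↥(L0 ⊓ MulAction.stabilizer M24 (pt i)) ≃*
      ↥(T ⊓ MulAction.stabilizer (Equiv.Perm GolayPt) (pt i)) :=
    (Subgroup.equivMapOfInjective _ _ M24.subtype_injective).trans
      (MulEquiv.subgroupCongr (map_inf_stab (pt i)))
  rcases ptsL_cases i hi with ⟨hb, -⟩ | ⟨hb, -⟩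
  · have ha : pt i ∈ dd.erase (pt 0) := by
      rw [Finset.mem_erase]
      exact ⟨fun h => h0 (pt_injective_lt h24 (by norm_num) h), (pt_mem_dd_iff h24).mpr hb⟩
    obtain ⟨e⟩ := La_iso dd_mem pt0_mem pt5_not_mem ha
    exact ⟨e1.symm.trans e⟩
  · have ha : pt i ∈ ddᶜ.erase (pt 5) := by
      rw [Finset.mem_erase, Finset.mem_compl, pt_mem_dd_iff h24, hb]
      exact ⟨fun h => h5 (pt_injective_lt h24 (by norm_num) h), by simp⟩
    obtain ⟨e⟩ := La_iso (Cfsg.Agent.S1566.compl_mem_dodecads dd_mem)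
      (Finset.mem_compl.mpr pt5_not_mem) (fun h => (Finset.mem_compl.mp h) pt0_mem) ha
    rw [← L0_eq_compl] at e
    exact ⟨e1.symm.trans e⟩

end Cfsg.Agent.Lib.Helper3.L211
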