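import Mathlib
import Cfsg.Agent.Lib.Helper3.L211.Model
import Cfsg.Agent.Lib.Helper13.SL2FiveRecog

set_option autoImplicit false

/-! The 22 subgroups `A₅` of `L₂(11)`: they are the stabilisers of the 22 remaining points in the
action on 24 points, and they fall into two classes of 11. -/

namespace Cfsg.Agent.Lib.Helper3.L211

open Cfsg Cfsg.Agent.Lib.Helper3.Golay Cfsg.Agent.Lib.Helper3.Fus Cfsg.Agent.Lib.Helper3.OutAut
open Cfsg.Agent.Lib.Helper3.L211.Data
open scoped Pointwise

/-- a faithful action on the 24 points with image `T` -/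
structure Model (X : Type*) [Group X] where
  /-- the action -/
  ρ : X →* Equiv.Perm GolayPt
  /-- it is faithful -/
  inj : Function.Injective ρ
  /-- its image -/
  range_eq : ρ.range = T

namespace Model

variable {X : Type*} [Group X] (M : Model X)

/-- the code of an element -/
def cd (x : X) : ℕ := codeOf (M.ρ x)

theorem mem_T (x : X) : M.ρ x ∈ T := by
  rw [← M.range_eq]
  exact ⟨x, rfl⟩

theorem cd_mem (x : X) : M.cd x ∈ LG := code_mem_LG (M.mem_T x)

theorem exists_of_mem {n : ℕ} (h : n ∈ LG) : ∃ x : X, M.cd x = n := by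
  obtain ⟨σ, hσ, rfl⟩ := LG_sound n h
  rw [← M.range_eq] at hσ
  obtain ⟨x, rfl⟩ := hσ
  exact ⟨x, rfl⟩

theorem cd_one : M.cd 1 = idN := by
  unfold cd
  rw [map_one, codeOf_one]

theorem cd_mul (x y : X) : M.cd (x * y) = compN (M.cd x) (M.cd y) := by
  unfold cd
  rw [map_mul, codeOf_mul]

theorem cd_inj {x y : X} (h : M.cd x = M.cd y) : x = y := M.inj (codeOf_injective h)

theorem eq_one_of_cd {x : X} (h : M.cd x = idN) : x = 1 := M.cd_inj (h.trans M.cd_one.symm)

include M in
theorem finite : Finite X := Finite.of_injective M.ρ M.inj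

theorem look_eq (x : X) {i : ℕ} (hi : i < 24) : lookN (M.cd x) i = idx (M.ρ x (pt i)) :=
  (hasN_codeOf (M.ρ x) i hi).symm

/-- the point stabilisers -/
def K (i : ℕ) : Subgroup X := (MulAction.stabilizer (Equiv.Perm GolayPt) (pt i)).comap M.ρ

theorem mem_K {i : ℕ} {x : X} : x ∈ M.K i ↔ M.ρ x (pt i) = pt i := by
  unfold K
  rw [Subgroup.mem_comap, MulAction.mem_stabilizer_iff, Equiv.Perm.smul_def]

theorem mem_K_iff {i : ℕ} (hi : i < 24) {x : X} : x ∈ M.K i ↔ lookN (M.cd x) i = i := by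
  rw [M.mem_K, M.look_eq x hi]
  constructor
  · intro h
    rw [h, idx_pt hi]
  · intro h
    have := pt_idx (M.ρ x (pt i))
    rw [h] at this
    exact this.symm

theorem K_iso {i : ℕ} (hi : i ∈ ptsL) : Nonempty (↥(M.K i) ≃* alternatingGroup (Fin 5)) := by
  obtain ⟨e⟩ := stab_iso hi
  have h1 : (M.K i).map M.ρ = T ⊓ MulAction.stabilizer (Equiv.Perm GolayPt) (pt i) := by
    unfold K
    rw [Subgroup.map_comap_eq, M.range_eq]
  exact ⟨((Subgroup.equivMapOfInjective _ _ M.inj).trans (MulEquiv.subgroupCongr h1)).trans e⟩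

theorem card_A5 : Nat.card (alternatingGroup (Fin 5)) = 60 := by
  rw [nat_card_alternatingGroup, Nat.card_eq_fintype_card, Fintype.card_fin]
  rfl

theorem card_K {i : ℕ} (hi : i ∈ ptsL) : Nat.card (M.K i) = 60 := by
  obtain ⟨e⟩ := M.K_iso hi
  rw [Nat.card_congr e.toEquiv, card_A5]

theorem K_ne {i j : ℕ} (hi : i ∈ ptsL) (hj : j ∈ ptsL) (hij : i ≠ j) : M.K i ≠ M.K j := by
  have h := chk_D
  rw [List.all_eq_true] at h
  have h1 := h i hi
  rw [List.all_eq_true] at h1
  have h2 := h1 j hj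
  rw [Bool.or_eq_true] at h2
  rcases h2 with h2 | h2
  · exact absurd (Nat.eq_of_beq_eq_true h2) hij
  · rw [List.any_eq_true] at h2
    obtain ⟨g, hg, hgij⟩ := h2
    rw [Bool.and_eq_true] at hgij
    obtain ⟨x, rfl⟩ := M.exists_of_mem hg
    intro hK
    have hxi : x ∈ M.K i := (M.mem_K_iff (ptsL_spec i hi).1).mpr (Nat.eq_of_beq_eq_true hgij.1)
    rw [hK, M.mem_K_iff (ptsL_spec j hj).1] at hxi
    have : Nat.beq (lookN (M.cd x) j) j = true := by rw [hxi]; exact Nat.beq_refl j
    rw [this] at hgij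
    exact Bool.noConfusion hgij.2

theorem cd_cube {x : X} (h : x ^ 3 = 1) : cubeN (M.cd x) = idN := by
  unfold cubeN
  rw [strictN_eq, ← M.cd_mul, ← M.cd_mul, ← M.cd_one]
  congr 1
  rw [← h]
  simp only [pow_succ, pow_zero, one_mul, mul_assoc]

theorem cd_pow5 {x : X} (h : x ^ 5 = 1) : pow5N (M.cd x) = idN := by
  unfold pow5N
  rw [strictN_eq, strictN_eq, ← M.cd_mul, ← M.cd_mul, ← M.cd_mul, ← M.cd_one]
  congr 1
  rw [← h]
  simp only [pow_succ, pow_zero, one_mul, mul_assoc]

theorem cd_sq {x : X} (h : x ^ 2 = 1) : sqN (M.cd x) = idN := by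
  unfold sqN
  rw [← M.cd_mul, ← M.cd_one]
  congr 1
  rw [← h]
  simp only [pow_succ, pow_zero, one_mul, mul_assoc]

/-- every subgroup `A₅` is a point stabiliser -/
theorem exists_eq_K (H : Subgroup X) (hH : Nonempty (↥H ≃* alternatingGroup (Fin 5))) :
    ∃ i ∈ ptsL, H = M.K i := by
  obtain ⟨e⟩ := hH
  have hcard : Nat.card H = 60 := by rw [Nat.card_congr e.toEquiv, card_A5]
  obtain ⟨a, b, ha, hb, hab, hcl⟩ := Cfsg.Agent.Lib.Helper13.exists_gens_of_equiv_alt_five e
  have ha' : (a : X) ^ 3 = 1 := by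
    have := congrArg Subtype.val ha
    simpa using this
  have hb' : (b : X) ^ 5 = 1 := by
    have := congrArg Subtype.val hb
    simpa using this
  have hab' : ((a : X) * b) ^ 2 = 1 := by
    have := congrArg Subtype.val hab
    simpa using this
  -- `a` is not trivial
  have hane : M.cd (a : X) ≠ idN := by
    intro h1
    have ha1 : (a : X) = 1 := M.eq_one_of_cd h1
    rw [ha1, one_mul] at hab'
    have hb1 : (b : X) = 1 := by
      have : (b : X) = (b : X) ^ 5 * ((b : X) ^ 2)⁻¹ ^ 2 := by group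
      rw [this, hb', hab']
      simp
    have ha0 : a = 1 := Subtype.ext ha1
    have hb0 : b = 1 := Subtype.ext hb1
    rw [ha0, hb0] at hcl
    have hbot : (⊤ : Subgroup ↥H) = ⊥ := by
      rw [← hcl, Subgroup.closure_eq_bot_iff]
      intro x hx
      simpa using hx
    have hc1 : Nat.card ↥H = 1 := by
      have h1 : Nat.card (⊤ : Subgroup ↥H) = 1 := by rw [hbot]; exact Subgroup.card_bot
      rwa [Subgroup.card_top] at h1
    omega
  -- the codes
  have h3 := chk_O3
  rw [List.all_eq_true] at h3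
  have h3a := h3 _ (M.cd_mem a)
  rw [M.cd_cube ha', Nat.beq_refl, Bool.not_true, Bool.false_or, Bool.or_eq_true] at h3a
  have haO : M.cd (a : X) ∈ O3L := by
    rcases h3a with h | h
    · exact absurd (Nat.eq_of_beq_eq_true h) hane
    · exact memB_iff.mp h
  have h5 := chk_O5
  rw [List.all_eq_true] at h5
  have h5b := h5 _ (M.cd_mem b)
  rw [M.cd_pow5 hb', Nat.beq_refl, Bool.not_true, Bool.false_or] at h5b
  have hbO : M.cd (b : X) ∈ O5L := memB_iff.mp h5b
  have hC := chk_C
  rw [List.all_eq_true] at hC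
  have hC1 := hC _ haO
  rw [List.all_eq_true] at hC1
  have hC2 := hC1 _ hbO
  rw [← M.cd_mul, M.cd_sq hab', Nat.beq_refl, Bool.not_true, Bool.false_or,
    List.any_eq_true] at hC2
  obtain ⟨i, hi, hfix⟩ := hC2
  rw [Bool.and_eq_true] at hfix
  have h24 := (ptsL_spec i hi).1
  have haK : (a : X) ∈ M.K i := (M.mem_K_iff h24).mpr (Nat.eq_of_beq_eq_true hfix.1)
  have hbK : (b : X) ∈ M.K i := (M.mem_K_iff h24).mpr (Nat.eq_of_beq_eq_true hfix.2)
  refine ⟨i, hi, ?_⟩
  have hle : H ≤ M.K i := by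
    intro x hx
    have hxt : (⟨x, hx⟩ : ↥H) ∈ Subgroup.closure ({a, b} : Set ↥H) := by rw [hcl]; trivial
    have hsub : Subgroup.closure ({a, b} : Set ↥H) ≤ (M.K i).comap H.subtype := by
      rw [Subgroup.closure_le]
      intro y hy
      rcases hy with rfl | rfl
      · exact haK
      · exact hbK
    exact hsub hxt
  haveI := M.finite
  exact Subgroup.eq_of_le_of_card_ge hle (by rw [hcard, M.card_K hi])

include M in
/-- the number of subgroups `A₅` -/
theorem card_A5_subgroups :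
    Nat.card {H : Subgroup X // Nonempty (↥H ≃* alternatingGroup (Fin 5))} = 22 := by
  have hset : {H : Subgroup X | Nonempty (↥H ≃* alternatingGroup (Fin 5))} =
      (fun i => M.K i) '' (↑ptsL.toFinset : Set ℕ) := by
    ext H
    rw [Set.mem_setOf_eq, Set.mem_image]
    constructor
    · intro hH
      obtain ⟨i, hi, rfl⟩ := M.exists_eq_K H hH
      exact ⟨i, by rw [Finset.mem_coe, List.mem_toFinset]; exact hi, rfl⟩
    · rintro ⟨i, hi, rfl⟩
      rw [Finset.mem_coe, List.mem_toFinset] at hi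
      exact M.K_iso hi
  have hinj : Set.InjOn (fun i => M.K i) (↑ptsL.toFinset : Set ℕ) := by
    intro i hi j hj hij
    rw [Finset.mem_coe, List.mem_toFinset] at hi hj
    by_contra hne
    exact M.K_ne hi hj hne hij
  show Nat.card ↥{H : Subgroup X | Nonempty (↥H ≃* alternatingGroup (Fin 5))} = 22
  rw [Nat.card_coe_set_eq, hset, Set.ncard_image_of_injOn hinj, Set.ncard_coe_finset,
    List.toFinset_card_of_nodup (by decide +kernel)]
  exact chk_len.2

/-- conjugation permutes the point stabilisers -/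
theorem conj_K (g : X) {i j : ℕ} (h : M.ρ g (pt i) = pt j) : MulAut.conj g • M.K i = M.K j := by
  ext x
  rw [Subgroup.mem_pointwise_smul_iff_inv_smul_mem, MulAut.smul_def, ← map_inv,
    MulAut.conj_apply, M.mem_K, M.mem_K, inv_inv, map_mul, map_mul, Equiv.Perm.mul_apply,
    Equiv.Perm.mul_apply, h, map_inv, Equiv.Perm.inv_eq_iff_eq, h]

theorem not_conj (g : X) : MulAut.conj g • M.K 1 ≠ M.K 7 := by
  have hT := Cfsg.Agent.Lib.Helper3.L211.mem_T.mp (M.mem_T g)
  obtain ⟨-, hdd, h0, -⟩ := hT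
  have h1 : M.ρ g (pt 1) ∈ dd := by
    rw [Cfsg.Agent.S1602.mem_iff_of_smul_eq hdd, pt_mem_dd_iff (by norm_num)]
    decide +kernel
  have h2 : M.ρ g (pt 1) ≠ pt 0 := by
    intro h
    rw [← h0] at h
    have := (M.ρ g).injective h
    exact absurd (pt_injective_lt (by norm_num) (by norm_num) this) (by norm_num)
  have hj := M.conj_K g (i := 1) (j := idx (M.ρ g (pt 1))) (pt_idx _).symm
  rw [hj]
  have hlt := idx_lt (M.ρ g (pt 1))
  have hjd : d0.testBit (idx (M.ρ g (pt 1))) = true := by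
    rw [← pt_mem_dd_iff hlt, pt_idx]
    exact h1
  apply M.K_ne
  · apply mem_ptsL _ hlt
    · intro h
      apply h2
      rw [← pt_idx (M.ρ g (pt 1)), h]
    · intro h
      rw [h] at hjd
      revert hjd
      decide +kernel
  · decide +kernel
  · intro h
    rw [h] at hjd
    revert hjd
    decide +kernel

theorem conj_to (L : Subgroup X) (hL : Nonempty (↥L ≃* alternatingGroup (Fin 5))) :
    ∃ g : X, MulAut.conj g • L = M.K 1 ∨ MulAut.conj g • L = M.K 7 := by
  obtain ⟨i, hi, rfl⟩ := M.exists_eq_K L hL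
  have h24 := (ptsL_spec i hi).1
  obtain ⟨hT1, hT2⟩ := chk_T
  rw [List.all_eq_true] at hT1 hT2
  rcases ptsL_cases i hi with ⟨-, hd⟩ | ⟨-, hc⟩
  · have := hT1 i hd
    rw [List.any_eq_true] at this
    obtain ⟨n, hn, hni⟩ := this
    obtain ⟨g, rfl⟩ := M.exists_of_mem hn
    refine ⟨g, Or.inl (M.conj_K g ?_)⟩
    rw [apply_of_codeOf _ h24]
    exact congrArg pt (Nat.eq_of_beq_eq_true hni)
  · have := hT2 i hc
    rw [List.any_eq_true] at this
    obtain ⟨n, hn, hni⟩ := this
    obtain ⟨g, rfl⟩ := M.exists_of_mem hn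
    refine ⟨g, Or.inr (M.conj_K g ?_)⟩
    rw [apply_of_codeOf _ h24]
    exact congrArg pt (Nat.eq_of_beq_eq_true hni)

include M in
/-- the statement for a group with a model -/
theorem main :
    Nat.card {H : Subgroup X // Nonempty (↥H ≃* alternatingGroup (Fin 5))} = 22 ∧
    ∃ H K : Subgroup X, Nonempty (↥H ≃* alternatingGroup (Fin 5)) ∧
      Nonempty (↥K ≃* alternatingGroup (Fin 5)) ∧ (∀ g : X, MulAut.conj g • H ≠ K) ∧
      ∀ L : Subgroup X, Nonempty (↥L ≃* alternatingGroup (Fin 5)) →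
        ∃ g : X, MulAut.conj g • L = H ∨ MulAut.conj g • L = K :=
  ⟨M.card_A5_subgroups, M.K 1, M.K 7, M.K_iso (by decide +kernel), M.K_iso (by decide +kernel),
    M.not_conj, M.conj_to⟩

end Model

/-- a group isomorphic to `L0` has a model -/
noncomputable def modelOfEquiv {X : Type*} [Group X] (e : X ≃* ↥L0) : Model X where
  ρ := M24.subtype.comp (L0.subtype.comp e.toMonoidHom)
  inj := M24.subtype_injective.comp (L0.subtype_injective.comp e.injective)
  range_eq := by
    ext σ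
    unfold T
    rw [MonoidHom.mem_range, Subgroup.mem_map]
    constructor
    · rintro ⟨x, rfl⟩
      exact ⟨(e x : ↥M24), (e x).2, rfl⟩
    · rintro ⟨g, hg, rfl⟩
      refine ⟨e.symm ⟨g, hg⟩, ?_⟩
      simp

end Cfsg.Agent.Lib.Helper3.L211
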